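import Cfsg.Agent.ChevalleyStructure.St.Rels

/-!
# Linear functionals on the root tables

`Wf D`: indices occurring in the tables are in range. `Fun D f`: the integer function `f` on root indices is
additive along the chain tables (and odd under negation). Consequences for `commTerms` and for the entries of
the matrices `D.x K r t`.
-/

set_option autoImplicit false

namespace Cfsg.Agent.ChevalleyStructure.St.Functional

open Cfsg.Lie

/-- Indices in the tables are in range and negation is a fixed point free involution. -/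
structure Wf (D : ChevalleyDatum) : Prop where
  neg_lt : ∀ r < D.nroots, D.neg r < D.nroots
  neg_neg : ∀ r < D.nroots, D.neg (D.neg r) = r
  chain_lt : ∀ r < D.nroots, ∀ e ∈ (D.chain.getD r #[]).toList, ∀ q ∈ e.2.toList.zipIdx, q.1.1 < D.nroots

/-- `f` is additive on the root tables. -/
structure Fun (D : ChevalleyDatum) (f : ℕ → ℤ) : Prop where
  neg : ∀ r < D.nroots, f (D.neg r) = - f r
  chain : ∀ r < D.nroots, ∀ e ∈ (D.chain.getD r #[]).toList, ∀ q ∈ e.2.toList.zipIdx,
    f q.1.1 = (q.2 + 1) * f r + f e.1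

variable {D : ChevalleyDatum}

theorem Fun.add {f g : ℕ → ℤ} (hf : Fun D f) (hg : Fun D g) : Fun D (fun r => f r + g r) where
  neg r hr := by
    show f (D.neg r) + g (D.neg r) = - (f r + g r)
    rw [hf.neg r hr, hg.neg r hr]; ring
  chain r hr e he q hq := by
    show f q.1.1 + g q.1.1 = (q.2 + 1) * (f r + g r) + (f e.1 + g e.1)
    rw [hf.chain r hr e he q hq, hg.chain r hr e he q hq]; ring

theorem Fun.smul {f : ℕ → ℤ} (hf : Fun D f) (a : ℤ) : Fun D (fun r => a * f r) where
  neg r hr := by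
    show a * f (D.neg r) = - (a * f r)
    rw [hf.neg r hr]; ring
  chain r hr e he q hq := by
    show a * f q.1.1 = (q.2 + 1) * (a * f r) + a * f e.1
    rw [hf.chain r hr e he q hq]; ring

theorem Fun.congr {f g : ℕ → ℤ} (hw : Wf D) (hwe : ∀ r < D.nroots, ∀ e ∈ (D.chain.getD r #[]).toList, e.1 < D.nroots)
    (hf : Fun D f) (h : ∀ r < D.nroots, g r = f r) : Fun D g where
  neg r hr := by rw [h _ (hw.neg_lt r hr), h r hr, hf.neg r hr]
  chain r hr e he q hq := by
    rw [h _ (hw.chain_lt r hr e he q hq), h r hr, h _ (hwe r hr e he), hf.chain r hr e he q hq]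

/-! ### chain roots and commutator terms -/

theorem chainRoot_spec (hw : Wf D) {r : ℕ} (hr : r < D.nroots) {s k c : ℕ}
    (h : D.chainRoot r s (k + 1) = some c) :
    c < D.nroots ∧ ∀ f, Fun D f → f c = (k + 1) * f r + f s := by
  change (((D.chainEntry r s)[k + 1 - 1]?).map Prod.fst) = some c at h
  rw [Nat.add_sub_cancel] at h
  change (((match (D.chain.getD r #[]).toList.find? (fun e => e.1 = s) with
    | none => []
    | some e => e.2.toList)[k]?).map Prod.fst) = some c at h
  cases hfind : (D.chain.getD r #[]).toList.find? (fun e => e.1 = s) with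
  | none => rw [hfind] at h; simp at h
  | some e =>
    rw [hfind] at h
    have he : e ∈ (D.chain.getD r #[]).toList := List.mem_of_find?_eq_some hfind
    have hes : e.1 = s := by
      have := List.find?_some hfind
      simpa using this
    obtain ⟨q, hq, hqc⟩ := Option.map_eq_some_iff.1 h
    have hmem : (q, k) ∈ e.2.toList.zipIdx := by
      rw [List.mem_zipIdx_iff_getElem?]; exact hq
    refine ⟨?_, fun f hf => ?_⟩
    · have := hw.chain_lt r hr e he (q, k) hmem
      rwa [hqc] at this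
    · have := hf.chain r hr e he (q, k) hmem
      rw [← hqc, this, hes]

/-- The data of the commutator terms: in range, positive exponents, additive. -/
theorem commTerms_spec (hw : Wf D) {r s : ℕ} (hr : r < D.nroots) (hs : s < D.nroots)
    {c : ℕ × ℤ × ℕ × ℕ} (hc : c ∈ D.commTerms r s) :
    c.1 < D.nroots ∧ 0 < c.2.2.1 ∧ 0 < c.2.2.2 ∧ ∀ f, Fun D f → f c.1 = c.2.2.1 * f r + c.2.2.2 * f s := by
  have h : c ∈ ([ (D.chainRoot r s 1, D.chainM r s 1, 1, 1),
      (D.chainRoot r s 2, D.chainM r s 2, 2, 1),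
      (D.chainRoot s r 2, D.chainM s r 2, 1, 2),
      (D.chainRoot r s 3, D.chainM r s 3, 3, 1),
      (D.chainRoot s r 3, - D.chainM s r 3, 1, 3),
      ((D.chainRoot r s 3).bind fun k => D.chainRoot k s 1,
        ((D.chainRoot r s 1).map fun k => D.chainM k r 2 / 3).getD 0, 3, 2),
      ((D.chainRoot s r 3).bind fun k => D.chainRoot k r 1,
        ((D.chainRoot r s 1).map fun k => -2 * D.chainM k s 2 / 3).getD 0, 2, 3) ] :
        List (Option ℕ × ℤ × ℕ × ℕ)).filterMap (fun c => c.1.map fun k => (k, c.2)) := hc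
  rw [List.mem_filterMap] at h
  obtain ⟨a, ha, hac⟩ := h
  obtain ⟨k, hk, hkc⟩ := Option.map_eq_some_iff.1 hac
  subst hkc
  simp only [List.mem_cons, List.not_mem_nil, or_false] at ha
  rcases ha with rfl | rfl | rfl | rfl | rfl | rfl | rfl
  · obtain ⟨h1, h2⟩ := chainRoot_spec (k := 0) hw hr hk
    refine ⟨h1, one_pos, one_pos, fun f hf => ?_⟩
    show f k = _
    rw [h2 f hf]; push_cast; ring
  · obtain ⟨h1, h2⟩ := chainRoot_spec (k := 1) hw hr hk
    refine ⟨h1, two_pos, one_pos, fun f hf => ?_⟩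
    show f k = _
    rw [h2 f hf]; push_cast; ring
  · obtain ⟨h1, h2⟩ := chainRoot_spec (k := 1) hw hs hk
    refine ⟨h1, one_pos, two_pos, fun f hf => ?_⟩
    show f k = _
    rw [h2 f hf]; push_cast; ring
  · obtain ⟨h1, h2⟩ := chainRoot_spec (k := 2) hw hr hk
    refine ⟨h1, by norm_num, one_pos, fun f hf => ?_⟩
    show f k = _
    rw [h2 f hf]; push_cast; ring
  · obtain ⟨h1, h2⟩ := chainRoot_spec (k := 2) hw hs hk
    refine ⟨h1, one_pos, by norm_num, fun f hf => ?_⟩
    show f k = _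
    rw [h2 f hf]; push_cast; ring
  · obtain ⟨m, hm, hmk⟩ := Option.bind_eq_some_iff.1 hk
    obtain ⟨h1, h2⟩ := chainRoot_spec (k := 2) hw hr hm
    obtain ⟨h3, h4⟩ := chainRoot_spec (k := 0) hw h1 hmk
    refine ⟨h3, by norm_num, by norm_num, fun f hf => ?_⟩
    show f k = _
    rw [h4 f hf, h2 f hf]; push_cast; ring
  · obtain ⟨m, hm, hmk⟩ := Option.bind_eq_some_iff.1 hk
    obtain ⟨h1, h2⟩ := chainRoot_spec (k := 2) hw hs hm
    obtain ⟨h3, h4⟩ := chainRoot_spec (k := 0) hw h1 hmk
    refine ⟨h3, by norm_num, by norm_num, fun f hf => ?_⟩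
    show f k = _
    rw [h4 f hf, h2 f hf]; push_cast; ring

/-! ### entries of the root matrices -/

theorem chainCoeff_spec {r : ℕ} (hr : r < D.nroots) {s u : ℕ} {p : ℕ × ℤ} (h : p ∈ D.chainCoeff r s u) :
    0 < p.1 ∧ ∀ f, Fun D f → f u = p.1 * f r + f s := by
  change p ∈ ((((D.chain.getD r #[]).toList.filter (fun e => e.1 = s)).flatMap fun e =>
    ((e.2.toList.zipIdx).filter (fun q => q.1.1 = u)).map fun q => (q.2 + 1, q.1.2)) : List (ℕ × ℤ)) at h
  rw [List.mem_flatMap] at h
  obtain ⟨e, he, hp⟩ := h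
  rw [List.mem_filter] at he
  obtain ⟨he, hes⟩ := he
  rw [List.mem_map] at hp
  obtain ⟨q, hq, rfl⟩ := hp
  rw [List.mem_filter] at hq
  obtain ⟨hq, hqu⟩ := hq
  have hes' : e.1 = s := by simpa using hes
  have hqu' : q.1.1 = u := by simpa using hqu
  refine ⟨Nat.succ_pos _, fun f hf => ?_⟩
  have := hf.chain r hr e he q hq
  rw [← hqu', this, hes']; push_cast; ring

universe u

variable {K : Type u} [Field K]

theorem x_of_lt {r : ℕ} (h : r < D.nroots) (t : K) : D.x K r t = D.xMat K ⟨r, h⟩ t := dif_pos h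

/-- rows `h_i` of the column of `e_v`, `v ≠ -r`, vanish -/
theorem x_inl_inr {r : ℕ} (h : r < D.nroots) (t : K) (i : Fin D.rank) (v : Fin D.nroots)
    (hv : (v : ℕ) ≠ D.neg r) : D.x K r t (Sum.inl i) (Sum.inr v) = 0 := by
  rw [x_of_lt h]
  show (if v = (⟨r, h⟩ : Fin D.nroots) then (0 : K)
    else if v.val = D.negIdx.getD r 0 then
      (((D.coroot.getD r #[]).getD i.val 0 : ℤ) : K) * t else 0) = 0
  have hv' : ¬ (v.val = D.negIdx.getD r 0) := hv
  rw [if_neg hv', ite_self]

/-- rows `h_i` of the column of `e_{-r}` -/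
theorem x_inl_neg {r : ℕ} (h : r < D.nroots) (t : K) (i : Fin D.rank) (v : Fin D.nroots)
    (hv : (v : ℕ) = D.neg r) (hvr : (v : ℕ) ≠ r) : D.x K r t (Sum.inl i) (Sum.inr v) =
      (((D.coroot.getD r #[]).getD i.val 0 : ℤ) : K) * t := by
  rw [x_of_lt h]
  show (if v = (⟨r, h⟩ : Fin D.nroots) then (0 : K)
    else if v.val = D.negIdx.getD r 0 then
      (((D.coroot.getD r #[]).getD i.val 0 : ℤ) : K) * t else 0) = _
  have h1 : ¬ (v = (⟨r, h⟩ : Fin D.nroots)) := fun e => hvr (by rw [e])
  have hv' : (v.val = D.negIdx.getD r 0) := hv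
  rw [if_neg h1, if_pos hv']

/-- the entry `(e_u, e_v)` of `x_r(t)` is that of the identity unless `f u > f v`, for a functional with `f r > 0` -/
theorem x_inr_inr (hw : Wf D) {f : ℕ → ℤ} (hf : Fun D f) {r : ℕ} (h : r < D.nroots) (hfr : 0 < f r) (t : K)
    (u v : Fin D.nroots) (huv : ¬ f v < f u) :
    D.x K r t (Sum.inr u) (Sum.inr v) = if u = v then 1 else 0 := by
  rw [x_of_lt h]
  show (if v = (⟨r, h⟩ : Fin D.nroots) then (if u = (⟨r, h⟩ : Fin D.nroots) then (1 : K) else 0)
    else if v.val = D.negIdx.getD r 0 then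
      (if u = v then 1 else if u = (⟨r, h⟩ : Fin D.nroots) then -(t ^ 2) else 0)
    else ((if u = v then 1 else 0) +
      ((D.chainCoeff r v.val u.val).map fun km => ((km.2 : ℤ) : K) * t ^ km.1).sum)) = _
  by_cases hv : v = (⟨r, h⟩ : Fin D.nroots)
  · rw [if_pos hv, hv]
  rw [if_neg hv]
  by_cases hv2 : v.val = D.negIdx.getD r 0
  · rw [if_pos hv2]
    by_cases huv' : u = v
    · rw [if_pos huv', if_pos huv']
    rw [if_neg huv', if_neg huv']
    have hu : u ≠ (⟨r, h⟩ : Fin D.nroots) := by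
      intro hu
      apply huv
      have e1 : (v : ℕ) = D.neg r := hv2
      have e2 : (u : ℕ) = r := by rw [hu]
      rw [e1, e2, hf.neg r h]; omega
    rw [if_neg hu]
  · rw [if_neg hv2]
    have hnil : D.chainCoeff r v.val u.val = [] := by
      rw [List.eq_nil_iff_forall_not_mem]
      intro p hp
      obtain ⟨hp1, hp2⟩ := chainCoeff_spec h hp
      apply huv
      rw [hp2 f hf]
      have : 0 < (p.1 : ℤ) * f r := mul_pos (by exact_mod_cast hp1) hfr
      omega
    rw [hnil]; simp

end Cfsg.Agent.ChevalleyStructure.St.Functional
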