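import Cfsg.Agent.ChevalleyStructure.St.Functional

/-!
# Injectivity on positive subgroups of the presented group

`Uf D K f` is the subgroup of the presented group generated by the `x̄_r(t)` with `f r > 0`, `f` a linear functional
on the root tables. A homomorphism `θ` to `GL` with `θ (x̄_r(t)) = x_r(t)` is injective on it.
-/

set_option autoImplicit false

namespace Cfsg.Agent.ChevalleyStructure.St.Inj

open Cfsg.Lie Cfsg.Agent.ChevalleyStructure.St.Rels Cfsg.Agent.ChevalleyStructure.St.Functional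

universe u

variable {K : Type u} [Field K] {D : ChevalleyDatum}

/-- The subgroup generated by the `x̄_r(t)` with `0 < f r`. -/
def Uf (D : ChevalleyDatum) (K : Type u) [Field K] (f : ℕ → ℤ) : Subgroup (D.SteinbergGroup K) :=
  Subgroup.closure {x | ∃ (r : ℕ) (t : K), r < D.nroots ∧ 0 < f r ∧ x = D.stGen K r t}

theorem stGen_mem_Uf {f : ℕ → ℤ} {r : ℕ} (hr : r < D.nroots) (hf : 0 < f r) (t : K) :
    D.stGen K r t ∈ Uf D K f := Subgroup.subset_closure ⟨r, t, hr, hf, rfl⟩

/-- The tie-breaking order. -/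
def rho (D : ChevalleyDatum) (f : ℕ → ℤ) (r : ℕ) : ℤ := f r * D.nroots + r

theorem rho_inj {f : ℕ → ℤ} {r s : ℕ} (hr : r < D.nroots) (hs : s < D.nroots) (h : rho D f r = rho D f s) :
    r = s := by
  unfold rho at h
  have hr' : (r : ℤ) < D.nroots := by exact_mod_cast hr
  have hs' : (s : ℤ) < D.nroots := by exact_mod_cast hs
  have h0 : (0 : ℤ) ≤ r := by positivity
  have h0' : (0 : ℤ) ≤ s := by positivity
  have : f r = f s := by
    by_contra hne
    rcases lt_or_gt_of_ne hne with hlt | hlt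
    · have : (f r + 1) * (D.nroots : ℤ) ≤ f s * D.nroots :=
        mul_le_mul_of_nonneg_right (by omega) (by omega)
      nlinarith
    · have : (f s + 1) * (D.nroots : ℤ) ≤ f r * D.nroots :=
        mul_le_mul_of_nonneg_right (by omega) (by omega)
      nlinarith
  rw [this] at h
  omega

theorem f_le_of_rho_le {f : ℕ → ℤ} {r s : ℕ} (_hr : r < D.nroots) (hs : s < D.nroots)
    (h : rho D f r ≤ rho D f s) : f r ≤ f s := by
  by_contra hlt
  unfold rho at h
  have hs' : (s : ℤ) < D.nroots := by exact_mod_cast hs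
  have h0 : (0 : ℤ) ≤ r := by positivity
  have : (f s + 1) * (D.nroots : ℤ) ≤ f r * D.nroots :=
    mul_le_mul_of_nonneg_right (by omega) (by omega)
  nlinarith

theorem rho_lt_of_f_lt {f : ℕ → ℤ} {r s : ℕ} (hr : r < D.nroots) (_hs : s < D.nroots)
    (h : f r < f s) : rho D f r < rho D f s := by
  unfold rho
  have hr' : (r : ℤ) < D.nroots := by exact_mod_cast hr
  have h0 : (0 : ℤ) ≤ s := by positivity
  have : (f r + 1) * (D.nroots : ℤ) ≤ f s * D.nroots :=
    mul_le_mul_of_nonneg_right (by omega) (by omega)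
  nlinarith

theorem le_rho_iff {f : ℕ → ℤ} {r : ℕ} (hr : r < D.nroots) : (D.nroots : ℤ) ≤ rho D f r ↔ 0 < f r := by
  unfold rho
  have hr' : (r : ℤ) < D.nroots := by exact_mod_cast hr
  have h0 : (0 : ℤ) ≤ r := by positivity
  constructor
  · intro h
    by_contra hlt
    have : f r * (D.nroots : ℤ) ≤ 0 := mul_nonpos_of_nonpos_of_nonneg (by omega) (by omega)
    omega
  · intro h
    have : 1 * (D.nroots : ℤ) ≤ f r * D.nroots := mul_le_mul_of_nonneg_right (by omega) (by omega)
    omega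

/-- The filtration. -/
def UU (D : ChevalleyDatum) (K : Type u) [Field K] (f : ℕ → ℤ) (k : ℤ) : Subgroup (D.SteinbergGroup K) :=
  Subgroup.closure {x | ∃ (r : ℕ) (t : K), r < D.nroots ∧ k ≤ rho D f r ∧ x = D.stGen K r t}

theorem stGen_mem_UU {f : ℕ → ℤ} {k : ℤ} {r : ℕ} (hr : r < D.nroots) (hf : k ≤ rho D f r) (t : K) :
    D.stGen K r t ∈ UU D K f k := Subgroup.subset_closure ⟨r, t, hr, hf, rfl⟩

theorem Uf_eq_UU (f : ℕ → ℤ) : Uf D K f = UU D K f D.nroots := by
  unfold Uf UU
  congr 1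
  ext x
  constructor
  · rintro ⟨r, t, hr, hf, rfl⟩
    exact ⟨r, t, hr, (le_rho_iff hr).2 hf, rfl⟩
  · rintro ⟨r, t, hr, hf, rfl⟩
    exact ⟨r, t, hr, (le_rho_iff hr).1 hf, rfl⟩

/-- Conjugation step: for roots with positive `f`, `x̄_s(u) x̄_r(t) = x̄_r(t) · y` with `y` in the next layer. -/
theorem UU_step (hw : Wf D) {f : ℕ → ℤ} (hf : Fun D f) {k : ℤ} (hk : (D.nroots : ℤ) ≤ k) {r : ℕ}
    (hr : r < D.nroots) (hrk : rho D f r = k) {g : D.SteinbergGroup K} (hg : g ∈ UU D K f k) :
    ∃ t : K, ∃ y ∈ UU D K f (k + 1), g = D.stGen K r t * y := by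
  have hfr : 0 < f r := (le_rho_iff hr).1 (by rw [hrk]; exact hk)
  have key : ∀ (s : ℕ) (u : K), s < D.nroots → k ≤ rho D f s → ∀ y : D.SteinbergGroup K,
      (∃ t : K, ∃ z ∈ UU D K f (k + 1), y = D.stGen K r t * z) →
      ∃ t : K, ∃ z ∈ UU D K f (k + 1), D.stGen K s u * y = D.stGen K r t * z := by
    intro s u hs hks y hy
    obtain ⟨t, z, hz, rfl⟩ := hy
    by_cases hsr : s = r
    · subst hsr
      exact ⟨u + t, z, hz, by rw [← mul_assoc, stGen_add']⟩
    have hks' : k + 1 ≤ rho D f s := by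
      rcases hks.lt_or_eq with h | h
      · exact h
      · exact absurd (rho_inj hs hr (by rw [← h, hrk])) hsr
    have hfs : 0 < f s := (le_rho_iff hs).1 (by omega)
    have hsn : s ≠ D.neg r := by
      intro h
      rw [h, hf.neg r hr] at hfs
      omega
    refine ⟨t, (D.stGen K s u * word D K (D.commWord K r s t u)) * z, ?_, ?_⟩
    · refine mul_mem (mul_mem (stGen_mem_UU hs hks' u) ?_) hz
      apply word_mem
      intro p hp
      obtain ⟨c, hc, rfl⟩ := List.mem_map.1 hp
      obtain ⟨h1, h2, h3, h4⟩ := commTerms_spec hw hr hs hc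
      refine stGen_mem_UU h1 ?_ _
      have hfc := h4 f hf
      have hlt : f s < f c.1 := by
        rw [hfc]
        have e1 : 0 < (c.2.2.1 : ℤ) * f r := mul_pos (by exact_mod_cast h2) hfr
        have e2 : 1 * f s ≤ (c.2.2.2 : ℤ) * f s :=
          mul_le_mul_of_nonneg_right (by exact_mod_cast h3) hfs.le
        omega
      have := rho_lt_of_f_lt hs h1 hlt
      show k + 1 ≤ rho D f c.1
      omega
    · rw [← stGen_conj hr hs hsr hsn]; group
  unfold UU at hg
  induction hg using Subgroup.closure_induction_left with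
  | one => exact ⟨0, 1, one_mem _, by rw [stGen_zero, mul_one]⟩
  | mul_left x hx y _ ih =>
    obtain ⟨s, u, hs, hks, rfl⟩ := hx
    exact key s u hs hks y ih
  | inv_mul_cancel x hx y _ ih =>
    obtain ⟨s, u, hs, hks, rfl⟩ := hx
    rw [stGen_inv]
    exact key s (-u) hs hks y ih

/-! ### The matrix side -/

/-- The matrix `g` maps `e_v` (for `v = -r` or `f v > -f r`) to `e_v` plus a combination of `e_u` with `f u > -f r`. -/
def Good (D : ChevalleyDatum) (f : ℕ → ℤ) (r : ℕ) (g : Matrix D.Idx D.Idx K) : Prop :=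
  ∀ v : Fin D.nroots, ((v : ℕ) = D.neg r ∨ - f r < f v) →
    (∀ i, g (Sum.inl i) (Sum.inr v) = 0) ∧
    ∀ u : Fin D.nroots, ¬ (- f r < f u) → g (Sum.inr u) (Sum.inr v) = if u = v then 1 else 0

theorem good_one (f : ℕ → ℤ) (r : ℕ) : Good (K := K) D f r 1 := by
  intro v _
  refine ⟨fun i => Matrix.one_apply_ne (by simp), fun u _ => ?_⟩
  rw [Matrix.one_apply]
  simp

theorem good_x_mul (hw : Wf D) {f : ℕ → ℤ} (hf : Fun D f) {r : ℕ} (hr : r < D.nroots) (hfr : 0 < f r) {s : ℕ}
    (hs : s < D.nroots) (hsr : s ≠ r) (hfs : f r ≤ f s) (t : K) {g : Matrix D.Idx D.Idx K}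
    (hg : Good D f r g) : Good D f r (D.x K s t * g) := by
  intro v hv
  obtain ⟨hg1, hg2⟩ := hg v hv
  have hnz : ∀ w : Fin D.nroots, g (Sum.inr w) (Sum.inr v) ≠ 0 → ((w : ℕ) = D.neg r ∨ - f r < f w) := by
    intro w hne
    by_cases hfw : - f r < f w
    · exact Or.inr hfw
    · rw [hg2 w hfw] at hne
      have hwv : w = v := by
        by_contra h
        rw [if_neg h] at hne
        exact hne rfl
      rw [hwv]
      exact hv
  have hwn : ∀ w : Fin D.nroots, ((w : ℕ) = D.neg r ∨ - f r < f w) → (w : ℕ) ≠ D.neg s := by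
    intro w hw1 hws
    rcases hw1 with h | h
    · apply hsr
      rw [← hw.neg_neg s hs, ← hws, h, hw.neg_neg r hr]
    · rw [hws, hf.neg s hs] at h
      omega
  constructor
  · intro i
    rw [Matrix.mul_apply, Fintype.sum_sum_type]
    have e1 : ∑ j, D.x K s t (Sum.inl i) (Sum.inl j) * g (Sum.inl j) (Sum.inr v) = 0 :=
      Finset.sum_eq_zero fun j _ => by rw [hg1 j, mul_zero]
    have e2 : ∑ w, D.x K s t (Sum.inl i) (Sum.inr w) * g (Sum.inr w) (Sum.inr v) = 0 := by
      refine Finset.sum_eq_zero fun w _ => ?_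
      by_cases hne : g (Sum.inr w) (Sum.inr v) = 0
      · rw [hne, mul_zero]
      · rw [x_inl_inr hs t i w (hwn w (hnz w hne)), zero_mul]
    rw [e1, e2, add_zero]
  · intro u hu
    rw [Matrix.mul_apply, Fintype.sum_sum_type]
    have e1 : ∑ j, D.x K s t (Sum.inr u) (Sum.inl j) * g (Sum.inl j) (Sum.inr v) = 0 :=
      Finset.sum_eq_zero fun j _ => by rw [hg1 j, mul_zero]
    have e2 : ∑ w, D.x K s t (Sum.inr u) (Sum.inr w) * g (Sum.inr w) (Sum.inr v) =
        ∑ w, (if u = w then (1 : K) else 0) * g (Sum.inr w) (Sum.inr v) := by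
      refine Finset.sum_congr rfl fun w _ => ?_
      by_cases hne : g (Sum.inr w) (Sum.inr v) = 0
      · rw [hne, mul_zero, mul_zero]
      · rw [x_inr_inr hw hf hs (by omega) t u w]
        rcases hnz w hne with h | h
        · rw [h, hf.neg r hr]; exact hu
        · omega
    rw [e1, e2, zero_add]
    simp only [ite_mul, one_mul, zero_mul, Finset.sum_ite_eq, Finset.mem_univ, if_true]
    exact hg2 u hu

theorem x_mul_good_apply (hw : Wf D) {f : ℕ → ℤ} (hf : Fun D f) {r : ℕ} (hr : r < D.nroots) (hfr : 0 < f r)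
    (t : K) {g : Matrix D.Idx D.Idx K} (hg : Good D f r g) (i : Fin D.rank) :
    (D.x K r t * g) (Sum.inl i) (Sum.inr ⟨D.neg r, hw.neg_lt r hr⟩) =
      (((D.coroot.getD r #[]).getD i.val 0 : ℤ) : K) * t := by
  obtain ⟨hg1, hg2⟩ := hg ⟨D.neg r, hw.neg_lt r hr⟩ (Or.inl rfl)
  have hnr : D.neg r ≠ r := by
    intro h
    have := hf.neg r hr
    rw [h] at this
    omega
  rw [Matrix.mul_apply, Fintype.sum_sum_type]
  have e1 : ∑ j, D.x K r t (Sum.inl i) (Sum.inl j) * g (Sum.inl j) (Sum.inr ⟨D.neg r, hw.neg_lt r hr⟩) = 0 :=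
    Finset.sum_eq_zero fun j _ => by rw [hg1 j, mul_zero]
  rw [e1, zero_add, Finset.sum_eq_single (⟨D.neg r, hw.neg_lt r hr⟩ : Fin D.nroots)]
  · rw [x_inl_neg hr t i _ rfl hnr, hg2 _ (by rw [hf.neg r hr]; omega), if_pos rfl, mul_one]
  · intro w _ hwne
    rw [x_inl_inr hr t i w (fun h => hwne (Fin.ext h)), zero_mul]
  · intro h
    exact absurd (Finset.mem_univ _) h

section theta

variable (θ : D.SteinbergGroup K →* GL D.Idx K)
  (hθ : ∀ (r : ℕ) (t : K), r < D.nroots → ((θ (D.stGen K r t) : GL D.Idx K) : Matrix D.Idx D.Idx K) = D.x K r t)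

include hθ

theorem good_theta (hw : Wf D) {f : ℕ → ℤ} (hf : Fun D f) {r : ℕ} (hr : r < D.nroots) (hfr : 0 < f r)
    {g : D.SteinbergGroup K} (hg : g ∈ UU D K f (rho D f r + 1)) :
    Good D f r ((θ g : GL D.Idx K) : Matrix D.Idx D.Idx K) := by
  have key : ∀ (s : ℕ) (u : K), s < D.nroots → rho D f r + 1 ≤ rho D f s → ∀ y : D.SteinbergGroup K,
      Good D f r ((θ y : GL D.Idx K) : Matrix D.Idx D.Idx K) →
      Good D f r ((θ (D.stGen K s u * y) : GL D.Idx K) : Matrix D.Idx D.Idx K) := by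
    intro s u hs hrs y hy
    rw [map_mul, Units.val_mul, hθ s u hs]
    refine good_x_mul hw hf hr hfr hs ?_ (f_le_of_rho_le hr hs (by omega)) u hy
    rintro rfl
    omega
  unfold UU at hg
  induction hg using Subgroup.closure_induction_left with
  | one => rw [map_one, Units.val_one]; exact good_one f r
  | mul_left x hx y _ ih =>
    obtain ⟨s, u, hs, hks, rfl⟩ := hx
    exact key s u hs hks y ih
  | inv_mul_cancel x hx y _ ih =>
    obtain ⟨s, u, hs, hks, rfl⟩ := hx
    rw [stGen_inv]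
    exact key s (-u) hs hks y ih

/-- A homomorphism with `θ (x̄_r(t)) = x_r(t)` is injective on `⟨x̄_r(t) : f r > 0⟩`. -/
theorem theta_inj (hw : Wf D)
    (hco : ∀ r < D.nroots, ∃ i : Fin D.rank, (((D.coroot.getD r #[]).getD i.val 0 : ℤ) : K) ≠ 0)
    {f : ℕ → ℤ} (hf : Fun D f) {g : D.SteinbergGroup K} (hg : g ∈ Uf D K f) (h1 : θ g = 1) : g = 1 := by
  obtain ⟨B, hB⟩ := Finset.exists_le ((Finset.range D.nroots).image (rho D f))
  have main : ∀ m : ℕ, ∀ k : ℤ, (D.nroots : ℤ) ≤ k → B + 1 ≤ k + m → ∀ g ∈ UU D K f k, θ g = 1 → g = 1 := by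
    intro m
    induction m with
    | zero =>
      intro k _ hBk g hg _
      have hempty : {x | ∃ (r : ℕ) (t : K), r < D.nroots ∧ k ≤ rho D f r ∧ x = D.stGen K r t} = ∅ := by
        rw [Set.eq_empty_iff_forall_notMem]
        rintro x ⟨r, t, hr, hk, _⟩
        have := hB (rho D f r) (Finset.mem_image_of_mem _ (Finset.mem_range.2 hr))
        simp only [Nat.cast_zero] at hBk
        omega
      unfold UU at hg
      rw [hempty, Subgroup.closure_empty] at hg
      exact Subgroup.mem_bot.1 hg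
    | succ m ih =>
      intro k hnk hBk g hg hg1
      by_cases hex : ∃ r < D.nroots, rho D f r = k
      · obtain ⟨r, hr, hrk⟩ := hex
        have hfr : 0 < f r := (le_rho_iff hr).1 (by omega)
        obtain ⟨t, y, hy, rfl⟩ := UU_step hw hf hnk hr hrk hg
        have hgood := good_theta θ hθ hw hf hr hfr (by rw [hrk]; exact hy)
        obtain ⟨i, hi⟩ := hco r hr
        have hent := x_mul_good_apply hw hf hr hfr t hgood i
        rw [← hθ r t hr, ← Units.val_mul, ← map_mul, hg1, Units.val_one, Matrix.one_apply_ne (by simp)] at hent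
        have ht : t = 0 := by
          rcases mul_eq_zero.1 hent.symm with h | h
          · exact absurd h hi
          · exact h
        subst ht
        rw [stGen_zero, one_mul] at hg1 ⊢
        exact ih (k + 1) (by omega) (by push_cast at hBk; omega) y hy hg1
      · have hle : UU D K f k ≤ UU D K f (k + 1) := by
          unfold UU
          apply Subgroup.closure_mono
          rintro x ⟨r, t, hr, hk, rfl⟩
          refine ⟨r, t, hr, ?_, rfl⟩
          rcases hk.lt_or_eq with h | h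
          · exact h
          · exact absurd ⟨r, hr, h.symm⟩ hex
        exact ih (k + 1) (by omega) (by push_cast at hBk; omega) g (hle hg) hg1
  rw [Uf_eq_UU] at hg
  exact main (B + 1 - D.nroots).toNat D.nroots le_rfl (by omega) g hg h1

/-- Two elements of `⟨x̄_r(t) : f r > 0⟩` with the same image are equal. -/
theorem theta_inj' (hw : Wf D)
    (hco : ∀ r < D.nroots, ∃ i : Fin D.rank, (((D.coroot.getD r #[]).getD i.val 0 : ℤ) : K) ≠ 0)
    {f : ℕ → ℤ} (hf : Fun D f) {g g' : D.SteinbergGroup K} (hg : g ∈ Uf D K f) (hg' : g' ∈ Uf D K f)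
    (h : θ g = θ g') : g = g' := by
  have := theta_inj θ hθ hw hco hf (g := g⁻¹ * g') (mul_mem (inv_mem hg) hg') (by rw [map_mul, map_inv, h, inv_mul_cancel])
  exact (inv_mul_eq_one.1 this)

end theta

end Cfsg.Agent.ChevalleyStructure.St.Inj
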