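import Cfsg.Prelude.Def_Steinberg

/-!
# The presented Steinberg group: the relations as identities

For any Chevalley datum `D` and field `K`: the defining relations of `D.SteinbergGroup K` as identities
between the generators `x̄_r(t) = D.stGen K r t`, words in them, conjugation form of the commutator relation.
-/

set_option autoImplicit false

namespace Cfsg.Agent.ChevalleyStructure.St.Rels

open Cfsg.Lie

universe u

variable {K : Type u} [Field K] (D : ChevalleyDatum)

/-- The quotient map from the free group. -/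
abbrev mk (K : Type u) [Field K] : FreeGroup (Fin D.nroots × K) →* D.SteinbergGroup K :=
  PresentedGroup.mk (D.steinbergRels K)

/-- The element `x̄_{r₁}(t₁) x̄_{r₂}(t₂) ⋯` of a word. -/
def word (K : Type u) [Field K] (w : List (ℕ × K)) : D.SteinbergGroup K :=
  (w.map fun p => D.stGen K p.1 p.2).prod

variable {D}

omit [Field K] in
theorem stX_of_lt {r : ℕ} (h : r < D.nroots) (t : K) : D.stX r t = FreeGroup.of (⟨r, h⟩, t) := dif_pos h

omit [Field K] in
theorem stX_of_not_lt {r : ℕ} (h : ¬ r < D.nroots) (t : K) : D.stX r t = 1 := dif_neg h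

theorem mk_stX (r : ℕ) (t : K) : mk D K (D.stX r t) = D.stGen K r t := rfl

theorem stGen_of_not_lt {r : ℕ} (h : ¬ r < D.nroots) (t : K) : D.stGen K r t = 1 := by
  rw [← mk_stX, stX_of_not_lt h, map_one]

theorem stGen_of_lt {r : ℕ} (h : r < D.nroots) (t : K) :
    D.stGen K r t = PresentedGroup.of (⟨r, h⟩, t) := by
  rw [← mk_stX, stX_of_lt h]; rfl

theorem word_nil : word D K [] = 1 := rfl

theorem word_cons (p : ℕ × K) (w : List (ℕ × K)) :
    word D K (p :: w) = D.stGen K p.1 p.2 * word D K w := by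
  show (List.map _ (p :: w)).prod = _
  rw [List.map_cons, List.prod_cons]; rfl

theorem word_append (w v : List (ℕ × K)) : word D K (w ++ v) = word D K w * word D K v := by
  show (List.map _ (w ++ v)).prod = _
  rw [List.map_append, List.prod_append]; rfl

theorem mk_stWord (w : List (ℕ × K)) : mk D K (D.stWord w) = word D K w := by
  show mk D K ((w.map fun p => D.stX p.1 p.2).prod) = _
  rw [map_list_prod, List.map_map]; rfl

/-- (R1) -/
theorem stGen_add {r : ℕ} (hr : r < D.nroots) (t₁ t₂ : K) :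
    D.stGen K r t₁ * D.stGen K r t₂ = D.stGen K r (t₁ + t₂) := by
  rw [← mk_stX, ← mk_stX, ← mk_stX, ← map_mul]
  exact PresentedGroup.mk_eq_mk_of_mul_inv_mem (Or.inl (Or.inl ⟨r, t₁, t₂, hr, rfl⟩))

theorem stGen_add' (r : ℕ) (t₁ t₂ : K) :
    D.stGen K r t₁ * D.stGen K r t₂ = D.stGen K r (t₁ + t₂) := by
  by_cases hr : r < D.nroots
  · exact stGen_add hr t₁ t₂
  · rw [stGen_of_not_lt hr, stGen_of_not_lt hr, stGen_of_not_lt hr, one_mul]

theorem stGen_zero (r : ℕ) : D.stGen K r 0 = 1 := by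
  have h := stGen_add' (D := D) (K := K) r 0 0
  rw [add_zero] at h
  exact mul_eq_left.1 h

theorem stGen_inv (r : ℕ) (t : K) : (D.stGen K r t)⁻¹ = D.stGen K r (-t) :=
  inv_eq_of_mul_eq_one_right (by rw [stGen_add', add_neg_cancel, stGen_zero])

/-- (R2) -/
theorem stGen_comm {r s : ℕ} (hr : r < D.nroots) (hs : s < D.nroots) (hsr : s ≠ r) (hsn : s ≠ D.neg r)
    (t u : K) :
    (D.stGen K s u)⁻¹ * (D.stGen K r t)⁻¹ * D.stGen K s u * D.stGen K r t = word D K (D.commWord K r s t u) := by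
  rw [← mk_stWord, ← mk_stX, ← mk_stX, ← map_inv, ← map_inv, ← map_mul, ← map_mul, ← map_mul]
  exact PresentedGroup.mk_eq_mk_of_mul_inv_mem (Or.inl (Or.inr ⟨r, s, t, u, hr, hs, hsr, hsn, rfl⟩))

/-- (R2) as a conjugation formula: `x̄_r(t)⁻¹ x̄_s(u) x̄_r(t) = x̄_s(u) · (commutator word)`. -/
theorem stGen_conj {r s : ℕ} (hr : r < D.nroots) (hs : s < D.nroots) (hsr : s ≠ r) (hsn : s ≠ D.neg r)
    (t u : K) :
    (D.stGen K r t)⁻¹ * D.stGen K s u * D.stGen K r t = D.stGen K s u * word D K (D.commWord K r s t u) := by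
  rw [← stGen_comm hr hs hsr hsn]; group

/-- `n̄_r(t)` -/
theorem mk_stN (r : ℕ) (t : K) :
    mk D K (D.stN r t) = D.stGen K r t * D.stGen K (D.neg r) (-t⁻¹) * D.stGen K r t := by
  show mk D K (D.stWord (D.nWord r t)) = _
  rw [mk_stWord]
  show word D K [(r, t), (D.neg r, -t⁻¹), (r, t)] = _
  rw [word_cons, word_cons, word_cons, word_nil, mul_one, mul_assoc]

theorem mk_stH (r : ℕ) (t : K) : mk D K (D.stH r t) = mk D K (D.stN r t) * mk D K (D.stN r (-1)) := by
  show mk D K (D.stWord (D.nWord r t ++ D.nWord r (-1))) = mk D K (D.stWord _) * mk D K (D.stWord _)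
  rw [mk_stWord, word_append, mk_stWord, mk_stWord]

/-- (R3) -/
theorem stH_mul {r : ℕ} (hr : r < D.nroots) {t₁ t₂ : K} (h₁ : t₁ ≠ 0) (h₂ : t₂ ≠ 0) :
    mk D K (D.stH r t₁) * mk D K (D.stH r t₂) = mk D K (D.stH r (t₁ * t₂)) := by
  rw [← map_mul]
  exact PresentedGroup.mk_eq_mk_of_mul_inv_mem (Or.inr ⟨r, t₁, t₂, hr, h₁, h₂, rfl⟩)

/-- Every element of the presented group lies in a subgroup containing the generators. -/
theorem mem_of_gens (H : Subgroup (D.SteinbergGroup K))
    (h : ∀ r < D.nroots, ∀ t : K, D.stGen K r t ∈ H) (g : D.SteinbergGroup K) : g ∈ H := by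
  refine PresentedGroup.generated_by _ H ?_ g
  rintro ⟨⟨r, hr⟩, t⟩
  rw [← stGen_of_lt]; exact h r hr t

/-- A word in generators belonging to a subgroup lies in it. -/
theorem word_mem (H : Subgroup (D.SteinbergGroup K)) {w : List (ℕ × K)}
    (h : ∀ p ∈ w, D.stGen K p.1 p.2 ∈ H) : word D K w ∈ H := by
  refine Subgroup.list_prod_mem _ ?_
  intro x hx
  obtain ⟨p, hp, rfl⟩ := List.mem_map.1 hx
  exact h p hp

end Cfsg.Agent.ChevalleyStructure.St.Rels
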