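import Cfsg.Agent.ChevalleyStructure.St.Tables

/-!
# The table facts `Tab` for E7
-/

set_option autoImplicit false

namespace Cfsg.Agent.ChevalleyStructure.St.TabE7

open Cfsg.Lie Cfsg.Agent.ChevalleyStructure.St.Conj Cfsg.Agent.ChevalleyStructure.St.Tables
open Cfsg.Agent.ChevalleyStructure

/-- packed Cartan rows of type E7 -/
def PE7 : ℕ → ℕ
  | 0 => 0x97888888888888888999999999999999a777777777788888777778888888888888888888899999888889999999999677777777777777788888888888888897
  | 1 => 0x88899997777888888888888999977778888888899999999a777787777888888888888999989999677777777888888889999777788888888888899997777888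
  | 2 => 0x8978888888899999977777788888888978888889999777789999a7777888888888888999967777899997777888888978888888899999977777788888888978
  | 3 => 0x88978888999777888888999777888897888899977788889788897999a777888888999677797888978888999777888897888899977788888899977788889788
  | 4 => 0x88897889788899778899778889788978889977888978897888978889799a778899677978889788897889788899778889788978889977889977888978897888
  | 5 => 0x8888978897897889797889789788978889788978978897888978889788979a7967978897888978889788978978897888978897897889797889789788978888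
  | 6 => 0x88888978897897978897978978897888889797897889788897888978897897a697897889788897888978897897978888897889789797889797897889788888
  | _ => 0

/-- height coefficients of type E7 -/
def mE7 : ℕ → ℕ
  | 0 => 34
  | 1 => 49
  | 2 => 66
  | 3 => 96
  | 4 => 75
  | 5 => 52
  | 6 => 27
  | _ => 0

/-- commutator expressions of the fundamental roots, type E7 -/
def CE7 : ℕ → ℕ × ℤ × ℕ × ℕ
  | 0 => (2, 1, 94, 52)
  | 1 => (2, -1, 31, 73)
  | 2 => (3, 1, 79, 56)
  | 3 => (3, -1, 46, 69)
  | 4 => (0, 1, 94, 32)
  | 5 => (0, -1, 31, 93)
  | 6 => (1, 1, 79, 47)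
  | 7 => (1, -1, 46, 78)
  | 8 => (3, 1, 70, 56)
  | 9 => (3, -1, 55, 69)
  | 10 => (4, 1, 67, 59)
  | 11 => (4, -1, 58, 66)
  | 12 => (5, 1, 65, 61)
  | 13 => (5, -1, 60, 64)
  | _ => (0, 0, 0, 0)

theorem rowsE7 : rowsOK chevE7 PE7 = true := by decide +kernel
theorem sizeE7 : chevE7.chain.toList.length = chevE7.nroots := by decide +kernel
theorem chainE7 : chOK 7 126 PE7 0 chevE7.chain.toList = true := by decide +kernel
theorem negE7 : negOK chevE7 PE7 = true := by decide +kernel
theorem reflE7 : reflOK chevE7 PE7 W0E7.tabE7 = true := by decide +kernel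
theorem simpE7 : simpOK chevE7 PE7 = true := by decide +kernel
theorem htE7 : htOK chevE7 PE7 mE7 3192 = true := by decide +kernel
theorem cgE7 : cgsOK chevE7 PE7 mE7 3192 CE7 = true := by decide +kernel

theorem tabE7 : Tab chevE7 (fun i => (mE7 i : ℤ)) :=
  tab_of_checks (P := PE7) (T := W0E7.tabE7) (M := 3192) (C := CE7)
    (by simp only [List.mem_cons, true_or, or_true])
    ⟨rowsE7, sizeE7, chainE7, negE7, reflE7, W0E7.tabE7_ok, simpE7, htE7, cgE7⟩

end Cfsg.Agent.ChevalleyStructure.St.TabE7
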