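import Cfsg.Agent.ChevalleyStructure.St.Tables

/-!
# The table facts `Tab` for E8
-/

set_option autoImplicit false

namespace Cfsg.Agent.ChevalleyStructure.St.TabE8

open Cfsg.Lie Cfsg.Agent.ChevalleyStructure.St.Conj Cfsg.Agent.ChevalleyStructure.St.Tables
open Cfsg.Agent.ChevalleyStructure

/-- packed Cartan rows of type E8 -/
def PE8 : ℕ → ℕ
  | 0 => 0x88888898999999777777788888888888888888888888888888888888999999999999999999999a777777777777777888888777777888888888888888888888888888888999999888888999999999999999677777777777777777777788888888888888888888888888888888888999999977777787888888
  | 1 => 0x88888997788888978888888888999999999977777777778888888888888888888899999777778888888888889999999999a777778777778888888888888888888899999899999677777777778888888888889999977777888888888888888888889999999999777777777788888888889788888997788888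
  | 2 => 0x88888979788888889999977777888888888888888888889999999999777777777788888888889788888888889999977777899999a777778888888888888888888899999677777899999777778888888888978888888888999999999977777777778888888888888888888899999777778888888979788888
  | 3 => 0x8888978897888889788888999977778888888888999999777777888888888899997777888889788888889999777788888978888979999a7777888888888888999967777978888978888899997777888888897888889999777788888888889999997777778888888888999977778888897888889788978888
  | 4 => 0x88897888897888889788897888899977788889997778888889997778888999777888897888978888899977788889788897888897888897999a777888888999677797888897888897888978888999777888889788897888899977788889997778888889997778888999777888897888978888897888897888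
  | 5 => 0x88978888889788888978889788978889977897888997788997788897899778889788978889788889977888978897888978888978888978889799a778899677978889788889788889788897889788899778888978889788978889977897888997788997788897899778889788978889788888978888889788
  | 6 => 0x8978888888897888889788897889789788978978978897978897897897889789788978889788889788978978897888978888978888978889788979a7967978897888978888978888978889788978978897888897888978897897889789789788979788978978978897897889788897888889788888888978
  | 7 => 0x97888888888897888889788897889789797888978979788979789788897978978897888978888889797897889788897888897888897888978897897a697897889788897888897888897888978897897978888889788897889789797888978979788979789788897978978897888978888897888888888897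
  | _ => 0

/-- height coefficients of type E8 -/
def mE8 : ℕ → ℕ
  | 0 => 92
  | 1 => 136
  | 2 => 182
  | 3 => 270
  | 4 => 220
  | 5 => 168
  | 6 => 114
  | 7 => 58
  | _ => 0

/-- commutator expressions of the fundamental roots, type E8 -/
def CE8 : ℕ → ℕ × ℤ × ℕ × ℕ
  | 0 => (2, 1, 163, 104)
  | 1 => (2, -1, 76, 135)
  | 2 => (3, 1, 142, 109)
  | 3 => (3, -1, 97, 130)
  | 4 => (0, 1, 163, 77)
  | 5 => (0, -1, 76, 162)
  | 6 => (1, 1, 142, 98)
  | 7 => (1, -1, 97, 141)
  | 8 => (3, 1, 131, 109)
  | 9 => (3, -1, 108, 130)
  | 10 => (4, 1, 127, 113)
  | 11 => (4, -1, 112, 126)
  | 12 => (5, 1, 124, 116)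
  | 13 => (5, -1, 115, 123)
  | 14 => (6, 1, 122, 118)
  | 15 => (6, -1, 117, 121)
  | _ => (0, 0, 0, 0)

theorem rowsE8 : rowsOK chevE8 PE8 = true := by decide +kernel
theorem sizeE8 : chevE8.chain.toList.length = chevE8.nroots := by decide +kernel
theorem chainE8 : chOK 8 240 PE8 0 chevE8.chain.toList = true := by decide +kernel
theorem negE8 : negOK chevE8 PE8 = true := by decide +kernel
theorem reflE8 : reflOK chevE8 PE8 W0E8.tabE8 = true := by decide +kernel
theorem simpE8 : simpOK chevE8 PE8 = true := by decide +kernel
theorem htE8 : htOK chevE8 PE8 mE8 9920 = true := by decide +kernel
theorem cgE8 : cgsOK chevE8 PE8 mE8 9920 CE8 = true := by decide +kernel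

theorem tabE8 : Tab chevE8 (fun i => (mE8 i : ℤ)) :=
  tab_of_checks (P := PE8) (T := W0E8.tabE8) (M := 9920) (C := CE8)
    (by simp only [List.mem_cons, true_or, or_true])
    ⟨rowsE8, sizeE8, chainE8, negE8, reflE8, W0E8.tabE8_ok, simpE8, htE8, cgE8⟩

end Cfsg.Agent.ChevalleyStructure.St.TabE8
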