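import Cfsg.Agent.ChevalleyStructure.St.TabSmall
import Cfsg.Agent.ChevalleyStructure.St.TabE7
import Cfsg.Agent.ChevalleyStructure.St.TabE8

/-!
# The table facts `Tab` for all seven tabulated data
-/

set_option autoImplicit false

namespace Cfsg.Agent.ChevalleyStructure.St.TabAll

open Cfsg.Lie Cfsg.Agent.ChevalleyStructure.St.Conj

theorem exists_tab {D : ChevalleyDatum} (hD : D ∈ [chevG2, chevB2, chevD4, chevF4, chevE6, chevE7, chevE8]) :
    ∃ m0 : ℕ → ℤ, Tab D m0 := by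
  simp only [List.mem_cons, List.not_mem_nil, or_false] at hD
  rcases hD with rfl | rfl | rfl | rfl | rfl | rfl | rfl
  · exact ⟨_, TabSmall.tabG2⟩
  · exact ⟨_, TabSmall.tabB2⟩
  · exact ⟨_, TabSmall.tabD4⟩
  · exact ⟨_, TabSmall.tabF4⟩
  · exact ⟨_, TabSmall.tabE6⟩
  · exact ⟨_, TabE7.tabE7⟩
  · exact ⟨_, TabE8.tabE8⟩

end Cfsg.Agent.ChevalleyStructure.St.TabAll
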