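import Cfsg.Agent.ChevalleyStructure.St.Tables

/-!
# The table facts `Tab` for G2, B2, D4, F4, E6
-/

set_option autoImplicit false

namespace Cfsg.Agent.ChevalleyStructure.St.TabSmall

open Cfsg.Lie Cfsg.Agent.ChevalleyStructure.St.Conj Cfsg.Agent.ChevalleyStructure.St.Tables
open Cfsg.Agent.ChevalleyStructure

/-- packed Cartan rows of type G2 -/
def PG2 : ℕ → ℕ
  | 0 => 0x8b97a5b69758
  | 1 => 0x97897a697897
  | _ => 0

/-- height coefficients of type G2 -/
def mG2 : ℕ → ℕ
  | 0 => 6
  | 1 => 10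
  | _ => 0

/-- commutator expressions of the fundamental roots, type G2 -/
def CG2 : ℕ → ℕ × ℤ × ℕ × ℕ
  | 0 => (1, 1, 8, 5)
  | 1 => (1, -1, 3, 6)
  | 2 => (0, 1, 10, 4)
  | 3 => (0, -1, 1, 7)
  | _ => (0, 0, 0, 0)

theorem rowsG2 : rowsOK chevG2 PG2 = true := by decide +kernel
theorem sizeG2 : chevG2.chain.toList.length = chevG2.nroots := by decide +kernel
theorem chainG2 : chOK 2 12 PG2 0 chevG2.chain.toList = true := by decide +kernel
theorem negG2 : negOK chevG2 PG2 = true := by decide +kernel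
theorem reflG2 : reflOK chevG2 PG2 W0Small.tabG2 = true := by decide +kernel
theorem simpG2 : simpOK chevG2 PG2 = true := by decide +kernel
theorem htG2 : htOK chevG2 PG2 mG2 128 = true := by decide +kernel
theorem cgG2 : cgsOK chevG2 PG2 mG2 128 CG2 = true := by decide +kernel

theorem tabG2 : Tab chevG2 (fun i => (mG2 i : ℤ)) :=
  tab_of_checks (P := PG2) (T := W0Small.tabG2) (M := 128) (C := CG2)
    (by simp only [List.mem_cons, true_or, or_true])
    ⟨rowsG2, sizeG2, chainG2, negG2, reflG2, W0Small.tabG2_ok, simpG2, htG2, cgG2⟩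

/-- packed Cartan rows of type B2 -/
def PB2 : ℕ → ℕ
  | 0 => 0xa8a6a686
  | 1 => 0x897a6978
  | _ => 0

/-- height coefficients of type B2 -/
def mB2 : ℕ → ℕ
  | 0 => 3
  | 1 => 4
  | _ => 0

/-- commutator expressions of the fundamental roots, type B2 -/
def CB2 : ℕ → ℕ × ℤ × ℕ × ℕ
  | 0 => (1, 1, 6, 3)
  | 1 => (1, -1, 1, 4)
  | 2 => (0, 1, 7, 2)
  | 3 => (0, -1, 0, 5)
  | _ => (0, 0, 0, 0)

theorem rowsB2 : rowsOK chevB2 PB2 = true := by decide +kernel
theorem sizeB2 : chevB2.chain.toList.length = chevB2.nroots := by decide +kernel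
theorem chainB2 : chOK 2 8 PB2 0 chevB2.chain.toList = true := by decide +kernel
theorem negB2 : negOK chevB2 PB2 = true := by decide +kernel
theorem reflB2 : reflOK chevB2 PB2 W0Small.tabB2 = true := by decide +kernel
theorem simpB2 : simpOK chevB2 PB2 = true := by decide +kernel
theorem htB2 : htOK chevB2 PB2 mB2 56 = true := by decide +kernel
theorem cgB2 : cgsOK chevB2 PB2 mB2 56 CB2 = true := by decide +kernel

theorem tabB2 : Tab chevB2 (fun i => (mB2 i : ℤ)) :=
  tab_of_checks (P := PB2) (T := W0Small.tabB2) (M := 56) (C := CB2)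
    (by simp only [List.mem_cons, true_or, or_true])
    ⟨rowsB2, sizeB2, chainB2, negB2, reflB2, W0Small.tabB2_ok, simpB2, htB2, cgB2⟩

/-- packed Cartan rows of type D4 -/
def PD4 : ℕ → ℕ
  | 0 => 0x89999a777788889999677778
  | 1 => 0x978897899a77996778978897
  | 2 => 0x8997789977a8869977899778
  | 3 => 0x89797897978a689797897978
  | _ => 0

/-- height coefficients of type D4 -/
def mD4 : ℕ → ℕ
  | 0 => 6
  | 1 => 10
  | 2 => 6
  | 3 => 6
  | _ => 0

/-- commutator expressions of the fundamental roots, type D4 -/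
def CD4 : ℕ → ℕ × ℤ × ℕ × ℕ
  | 0 => (1, 1, 19, 9)
  | 1 => (1, -1, 4, 14)
  | 2 => (0, 1, 19, 5)
  | 3 => (0, -1, 4, 18)
  | 4 => (1, 1, 16, 9)
  | 5 => (1, -1, 7, 14)
  | 6 => (1, 1, 15, 9)
  | 7 => (1, -1, 8, 14)
  | _ => (0, 0, 0, 0)

theorem rowsD4 : rowsOK chevD4 PD4 = true := by decide +kernel
theorem sizeD4 : chevD4.chain.toList.length = chevD4.nroots := by decide +kernel
theorem chainD4 : chOK 4 24 PD4 0 chevD4.chain.toList = true := by decide +kernel
theorem negD4 : negOK chevD4 PD4 = true := by decide +kernel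
theorem reflD4 : reflOK chevD4 PD4 W0Small.tabD4 = true := by decide +kernel
theorem simpD4 : simpOK chevD4 PD4 = true := by decide +kernel
theorem htD4 : htOK chevD4 PD4 mD4 224 = true := by decide +kernel
theorem cgD4 : cgsOK chevD4 PD4 mD4 224 CD4 = true := by decide +kernel

theorem tabD4 : Tab chevD4 (fun i => (mD4 i : ℤ)) :=
  tab_of_checks (P := PD4) (T := W0Small.tabD4) (M := 224) (C := CD4)
    (by simp only [List.mem_cons, true_or, or_true])
    ⟨rowsD4, sizeD4, chainD4, negD4, reflD4, W0Small.tabD4_ok, simpD4, htD4, cgD4⟩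

/-- packed Cartan rows of type F4 -/
def PF4 : ℕ → ℕ
  | 0 => 0x8889aaa7888999a666777888888999aaa677788896667888
  | 1 => 0x88a8688979977978aa88a6688aa6886689799779788a8688
  | 2 => 0x8978978897889789788979a7967978897897889788978978
  | 3 => 0x97888978897978889797897a697897978889797889788897
  | _ => 0

/-- height coefficients of type F4 -/
def mF4 : ℕ → ℕ
  | 0 => 16
  | 1 => 30
  | 2 => 42
  | 3 => 22
  | _ => 0

/-- commutator expressions of the fundamental roots, type F4 -/
def CF4 : ℕ → ℕ × ℤ × ℕ × ℕ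
  | 0 => (1, 1, 34, 20)
  | 1 => (1, -1, 13, 27)
  | 2 => (0, 1, 34, 14)
  | 3 => (0, -1, 13, 33)
  | 4 => (1, 1, 30, 20)
  | 5 => (1, -1, 17, 27)
  | 6 => (2, 1, 26, 22)
  | 7 => (2, -1, 21, 25)
  | _ => (0, 0, 0, 0)

theorem rowsF4 : rowsOK chevF4 PF4 = true := by decide +kernel
theorem sizeF4 : chevF4.chain.toList.length = chevF4.nroots := by decide +kernel
theorem chainF4 : chOK 4 48 PF4 0 chevF4.chain.toList = true := by decide +kernel
theorem negF4 : negOK chevF4 PF4 = true := by decide +kernel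
theorem reflF4 : reflOK chevF4 PF4 W0Small.tabF4 = true := by decide +kernel
theorem simpF4 : simpOK chevF4 PF4 = true := by decide +kernel
theorem htF4 : htOK chevF4 PF4 mF4 880 = true := by decide +kernel
theorem cgF4 : cgsOK chevF4 PF4 mF4 880 CF4 = true := by decide +kernel

theorem tabF4 : Tab chevF4 (fun i => (mF4 i : ℤ)) :=
  tab_of_checks (P := PF4) (T := W0Small.tabF4) (M := 880) (C := CF4)
    (by simp only [List.mem_cons, true_or, or_true])
    ⟨rowsF4, sizeF4, chainF4, negF4, reflF4, W0Small.tabF4_ok, simpF4, htF4, cgF4⟩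

/-- packed Cartan rows of type E6 -/
def PE6 : ℕ → ℕ
  | 0 => 0x888889999999999a77777788887777888888888888999988889999996777777777788888
  | 1 => 0x9788888899977788888999999a7778777888888999899967777778888899977788888897
  | 2 => 0x88999777888888978889997778999a777888888999677789997778889788888899977788
  | 3 => 0x89788899778889788997788897889799a778899677978897888997788978889977888978
  | 4 => 0x8897897889789788978897897889788979a7967978897889789788978897897889789788
  | 5 => 0x88897897978978888979789788978897897a697897889788978979788889789797897888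
  | _ => 0

/-- height coefficients of type E6 -/
def mE6 : ℕ → ℕ
  | 0 => 16
  | 1 => 22
  | 2 => 30
  | 3 => 42
  | 4 => 30
  | 5 => 16
  | _ => 0

/-- commutator expressions of the fundamental roots, type E6 -/
def CE6 : ℕ → ℕ × ℤ × ℕ × ℕ
  | 0 => (2, 1, 57, 29)
  | 1 => (2, -1, 14, 42)
  | 2 => (3, 1, 47, 32)
  | 3 => (3, -1, 24, 39)
  | 4 => (0, 1, 57, 15)
  | 5 => (0, -1, 14, 56)
  | 6 => (1, 1, 47, 25)
  | 7 => (1, -1, 24, 46)
  | 8 => (3, 1, 40, 32)
  | 9 => (3, -1, 31, 39)
  | 10 => (4, 1, 38, 34)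
  | 11 => (4, -1, 33, 37)
  | _ => (0, 0, 0, 0)

theorem rowsE6 : rowsOK chevE6 PE6 = true := by decide +kernel
theorem sizeE6 : chevE6.chain.toList.length = chevE6.nroots := by decide +kernel
theorem chainE6 : chOK 6 72 PE6 0 chevE6.chain.toList = true := by decide +kernel
theorem negE6 : negOK chevE6 PE6 = true := by decide +kernel
theorem reflE6 : reflOK chevE6 PE6 W0E6.tabE6 = true := by decide +kernel
theorem simpE6 : simpOK chevE6 PE6 = true := by decide +kernel
theorem htE6 : htOK chevE6 PE6 mE6 1248 = true := by decide +kernel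
theorem cgE6 : cgsOK chevE6 PE6 mE6 1248 CE6 = true := by decide +kernel

theorem tabE6 : Tab chevE6 (fun i => (mE6 i : ℤ)) :=
  tab_of_checks (P := PE6) (T := W0E6.tabE6) (M := 1248) (C := CE6)
    (by simp only [List.mem_cons, true_or, or_true])
    ⟨rowsE6, sizeE6, chainE6, negE6, reflE6, W0E6.tabE6_ok, simpE6, htE6, cgE6⟩

end Cfsg.Agent.ChevalleyStructure.St.TabSmall
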