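import Cfsg.Agent.ChevalleyStructure.St.Conj
import Cfsg.Agent.ChevalleyStructure.Reach
import Cfsg.Agent.ChevalleyStructure.UnipOrd

/-!
# Kernel checks for the table facts `Tab`

Rows of Cartan integers are packed into natural numbers (4 bits per entry, offset 8), one linear pass compares the
packing with the given table; additivity along chains, oddness, compatibility with fundamental reflections, heights
and the commutator expressions of the fundamental roots are checked on the packed rows.
-/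

set_option autoImplicit false

namespace Cfsg.Agent.ChevalleyStructure.St.Tables

open Cfsg.Lie Cfsg.Agent.ChevalleyStructure.St.Functional Cfsg.Agent.ChevalleyStructure.St.Conj
open Cfsg.Agent.ChevalleyStructure

/-- entry `r` of a packed row -/
def look (P r : ℕ) : ℕ := P / 16 ^ r % 16

theorem look_zero (P : ℕ) : look P 0 = P % 16 := by
  show P / 16 ^ 0 % 16 = _
  rw [pow_zero, Nat.div_one]

theorem look_succ (P r : ℕ) : look P (r + 1) = look (P / 16) r := by
  show P / 16 ^ (r + 1) % 16 = P / 16 / 16 ^ r % 16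
  rw [Nat.div_div_eq_div_mul, pow_succ']

/-- the packed number `P` lists the entries of `l` (offset 8) -/
def rowOK : List ℤ → ℕ → Bool
  | [], _ => true
  | c :: l, P => decide (c + 8 = ((P % 16 : ℕ) : ℤ)) && rowOK l (P / 16)

theorem rowOK_spec : ∀ (l : List ℤ) (P : ℕ), rowOK l P = true → ∀ (r : ℕ) (h : r < l.length),
    l[r] + 8 = (look P r : ℤ)
  | [], _, _, r, h => absurd h (Nat.not_lt_zero r)
  | c :: l, P, hl, r, h => by
    have h1 : (decide (c + 8 = ((P % 16 : ℕ) : ℤ)) && rowOK l (P / 16)) = true := hl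
    rw [Bool.and_eq_true, decide_eq_true_eq] at h1
    cases r with
    | zero => rw [look_zero]; exact h1.1
    | succ r =>
      rw [look_succ]
      exact rowOK_spec l (P / 16) h1.2 r (Nat.lt_of_succ_lt_succ h)

/-- all rows -/
def rowsOK (D : ChevalleyDatum) (P : ℕ → ℕ) : Bool :=
  (List.range D.rank).all fun i => rowOK (D.cartanSR.getD i #[]).toList (P i) &&
    Nat.beq (D.cartanSR.getD i #[]).toList.length D.nroots

theorem cartan_look {D : ChevalleyDatum} {P : ℕ → ℕ} (h : rowsOK D P = true) {i r : ℕ} (hi : i < D.rank)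
    (hr : r < D.nroots) : D.cartan i r + 8 = (look (P i) r : ℤ) := by
  have h1 := List.all_eq_true.1 h i (List.mem_range.2 hi)
  rw [Bool.and_eq_true] at h1
  have h2 := Nat.eq_of_beq_eq_true h1.2
  have hr' : r < (D.cartanSR.getD i #[]).toList.length := by rw [h2]; exact hr
  have h3 := rowOK_spec _ _ h1.1 r hr'
  rw [← h3]
  show (D.cartanSR.getD i #[]).getD r 0 + 8 = _
  have hs : r < (D.cartanSR.getD i #[]).size := by rw [← Array.length_toList]; exact hr'
  rw [← Array.getElem_eq_getD (h := hs), Array.getElem_toList]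

/-! ### chains -/

/-- additivity at one chain entry `c = k r + s` -/
def entOK (l : ℕ) (P : ℕ → ℕ) (r s k c : ℕ) : Bool :=
  (List.range l).all fun i => Nat.beq (look (P i) c + 8 * k) (k * look (P i) r + look (P i) s)

def qOK (l n : ℕ) (P : ℕ → ℕ) (r s : ℕ) : ℕ → List (ℕ × ℤ) → Bool
  | _, [] => true
  | k, q :: L => (Nat.blt q.1 n && entOK l P r s k q.1) && qOK l n P r s (k + 1) L

def rOK (l n : ℕ) (P : ℕ → ℕ) (r : ℕ) : List (ℕ × Array (ℕ × ℤ)) → Bool
  | [] => true
  | e :: L => (Nat.blt e.1 n && qOK l n P r e.1 1 e.2.toList) && rOK l n P r L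

def chOK (l n : ℕ) (P : ℕ → ℕ) : ℕ → List (Array (ℕ × Array (ℕ × ℤ))) → Bool
  | _, [] => true
  | r, a :: L => rOK l n P r a.toList && chOK l n P (r + 1) L

theorem qOK_spec {l n : ℕ} {P : ℕ → ℕ} {r s : ℕ} : ∀ (L : List (ℕ × ℤ)) (k : ℕ), qOK l n P r s (k + 1) L = true →
    ∀ q ∈ L.zipIdx k, q.1.1 < n ∧ ∀ i < l,
      look (P i) q.1.1 + 8 * (q.2 + 1) = (q.2 + 1) * look (P i) r + look (P i) s
  | [], _, _, q, hq => by simp at hq
  | a :: L, k, h, q, hq => by
    have h1 : ((Nat.blt a.1 n && entOK l P r s (k + 1) a.1) && qOK l n P r s (k + 1 + 1) L) = true := h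
    rw [Bool.and_eq_true, Bool.and_eq_true, Nat.blt_eq] at h1
    rw [List.zipIdx_cons, List.mem_cons] at hq
    rcases hq with rfl | hq
    · exact ⟨h1.1.1, fun i hi => Nat.eq_of_beq_eq_true (List.all_eq_true.1 h1.1.2 i (List.mem_range.2 hi))⟩
    · exact qOK_spec L (k + 1) h1.2 q hq

theorem rOK_spec {l n : ℕ} {P : ℕ → ℕ} {r : ℕ} : ∀ (L : List (ℕ × Array (ℕ × ℤ))), rOK l n P r L = true →
    ∀ e ∈ L, e.1 < n ∧ ∀ q ∈ e.2.toList.zipIdx, q.1.1 < n ∧ ∀ i < l,
      look (P i) q.1.1 + 8 * (q.2 + 1) = (q.2 + 1) * look (P i) r + look (P i) e.1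
  | [], _, e, he => by simp at he
  | a :: L, h, e, he => by
    have h1 : ((Nat.blt a.1 n && qOK l n P r a.1 1 a.2.toList) && rOK l n P r L) = true := h
    rw [Bool.and_eq_true, Bool.and_eq_true, Nat.blt_eq] at h1
    rcases List.mem_cons.1 he with rfl | he
    · exact ⟨h1.1.1, fun q hq => qOK_spec _ 0 h1.1.2 q hq⟩
    · exact rOK_spec L h1.2 e he

theorem chOK_spec {l n : ℕ} {P : ℕ → ℕ} : ∀ (L : List (Array (ℕ × Array (ℕ × ℤ)))) (r : ℕ), chOK l n P r L = true →
    ∀ (j : ℕ) (hj : j < L.length), ∀ e ∈ (L[j]).toList, e.1 < n ∧ ∀ q ∈ e.2.toList.zipIdx, q.1.1 < n ∧ ∀ i < l,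
      look (P i) q.1.1 + 8 * (q.2 + 1) = (q.2 + 1) * look (P i) (r + j) + look (P i) e.1
  | [], _, _, j, hj => absurd hj (Nat.not_lt_zero j)
  | a :: L, r, h, j, hj => by
    have h1 : (rOK l n P r a.toList && chOK l n P (r + 1) L) = true := h
    rw [Bool.and_eq_true] at h1
    cases j with
    | zero => exact rOK_spec a.toList h1.1
    | succ j =>
      have := chOK_spec L (r + 1) h1.2 j (Nat.lt_of_succ_lt_succ hj)
      rw [show r + 1 + j = r + (j + 1) by omega] at this
      exact this

/-! ### the remaining checks -/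

/-- oddness -/
def negOK (D : ChevalleyDatum) (P : ℕ → ℕ) : Bool :=
  (List.range D.nroots).all fun r => (List.range D.rank).all fun i =>
    Nat.beq (look (P i) (D.nroots - 1 - r) + look (P i) r) 16

/-- compatibility with the fundamental reflections (packed tables `T`), and positivity -/
def reflOK (D : ChevalleyDatum) (P T : ℕ → ℕ) : Bool :=
  (List.range D.nroots).all fun s => (List.range D.rank).all fun i =>
    ((List.range D.rank).all fun j =>
      Nat.beq (look (P j) (W0Core.look (T i) s) + look (P i) s * look (P j) (D.simple i) + 64)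
        (look (P j) s + 8 * look (P i) s + 8 * look (P j) (D.simple i))) &&
    (Nat.blt s (D.nroots / 2) || Nat.beq s (D.simple i) || Nat.ble (D.nroots / 2) (W0Core.look (T i) s))

/-- fundamental roots -/
def simpOK (D : ChevalleyDatum) (P : ℕ → ℕ) : Bool :=
  (List.range D.rank).all fun i => Nat.blt (D.simple i) D.nroots && Nat.beq (look (P i) (D.simple i)) 10

/-- height, offset by `8 Σ m_i` -/
def hsum (D : ChevalleyDatum) (P m : ℕ → ℕ) (r : ℕ) : ℕ :=
  ((List.range D.rank).map fun i => m i * look (P i) r).sum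

def htOK (D : ChevalleyDatum) (P m : ℕ → ℕ) (M : ℕ) : Bool :=
  Nat.beq ((List.range D.rank).map fun i => m i * 8).sum M &&
  (List.range D.nroots).all fun r =>
    bif Nat.ble (D.nroots / 2) r then Nat.blt M (hsum D P m r) else Nat.blt (hsum D P m r) M

/-- a list of commutator terms contains `q` once, with coefficient `±1`, linearly in the first parameter -/
def splitOK (q : ℕ) : List (ℕ × ℤ × ℕ × ℕ) → Bool
  | [] => false
  | c :: L => bif Nat.beq c.1 q then
      ((decide (c.2.1 = 1) || decide (c.2.1 = -1)) && Nat.beq c.2.2.1 1) && L.all (fun d => !(Nat.beq d.1 q))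
    else splitOK q L

/-- value of the functional `sg * (height - 2 * cartan j)` -/
def fval (D : ChevalleyDatum) (P m : ℕ → ℕ) (M j : ℕ) (sg : ℤ) (r : ℕ) : ℤ :=
  sg * (((hsum D P m r : ℕ) : ℤ) - M) + (-2 * sg) * ((look (P j) r : ℕ) - 8)

def cgOK (D : ChevalleyDatum) (P m : ℕ → ℕ) (M : ℕ) (p q : ℕ) (c : ℕ × ℤ × ℕ × ℕ) : Bool :=
  (Nat.blt c.1 D.rank && (Nat.blt c.2.2.1 D.nroots && Nat.blt c.2.2.2 D.nroots)) &&
  ((!(Nat.beq c.2.2.1 p) && !(Nat.beq c.2.2.1 (D.neg p))) && (!(Nat.beq c.2.2.2 p) && !(Nat.beq c.2.2.2 (D.neg p)))) &&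
  (!(Nat.beq c.2.2.2 c.2.2.1) && !(Nat.beq c.2.2.2 (D.neg c.2.2.1))) &&
  ((decide (0 < fval D P m M c.1 c.2.1 c.2.2.1) && decide (0 < fval D P m M c.1 c.2.1 c.2.2.2)) &&
    decide (0 < fval D P m M c.1 c.2.1 q)) &&
  splitOK q (D.commTerms c.2.2.1 c.2.2.2)

def cgsOK (D : ChevalleyDatum) (P m : ℕ → ℕ) (M : ℕ) (C : ℕ → ℕ × ℤ × ℕ × ℕ) : Bool :=
  (List.range D.rank).all fun i =>
    cgOK D P m M (D.simple i) (D.simple i) (C (2 * i)) &&
      cgOK D P m M (D.simple i) (D.neg (D.simple i)) (C (2 * i + 1))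

theorem splitOK_spec {q : ℕ} : ∀ {L : List (ℕ × ℤ × ℕ × ℕ)}, splitOK q L = true →
    ∃ (A B : List (ℕ × ℤ × ℕ × ℕ)) (C : ℤ) (j : ℕ),
      L = A ++ (q, C, 1, j) :: B ∧ (C = 1 ∨ C = -1) ∧ ∀ c ∈ A ++ B, c.1 ≠ q
  | [], h => by simp [splitOK] at h
  | c :: L, h => by
    have h1 : (bif Nat.beq c.1 q then
      ((decide (c.2.1 = 1) || decide (c.2.1 = -1)) && Nat.beq c.2.2.1 1) && L.all (fun d => !(Nat.beq d.1 q))
      else splitOK q L) = true := h
    cases hb : Nat.beq c.1 q with
    | true =>
      rw [hb, cond_true, Bool.and_eq_true, Bool.and_eq_true, Bool.or_eq_true, decide_eq_true_eq,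
        decide_eq_true_eq] at h1
      obtain ⟨c1, c2, c3, c4⟩ := c
      have e1 : c1 = q := Nat.eq_of_beq_eq_true hb
      have e2 : c3 = 1 := Nat.eq_of_beq_eq_true h1.1.2
      refine ⟨[], L, c2, c4, by rw [e1, e2]; rfl, h1.1.1, fun d hd => ?_⟩
      have := List.all_eq_true.1 h1.2 d hd
      intro hdq
      rw [hdq, Nat.beq_refl] at this
      exact absurd this (by decide)
    | false =>
      rw [hb, cond_false] at h1
      obtain ⟨A, B, C, j, hL, hC, hAB⟩ := splitOK_spec h1
      refine ⟨c :: A, B, C, j, by rw [hL]; rfl, hC, fun d hd => ?_⟩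
      rw [List.cons_append, List.mem_cons] at hd
      rcases hd with rfl | hd
      · intro hdq
        rw [hdq, Nat.beq_refl] at hb
        exact absurd hb (by decide)
      · exact hAB d hd

theorem sum_range_map (n : ℕ) (g : ℕ → ℤ) : ((List.range n).map g).sum = ∑ i ∈ Finset.range n, g i := by
  induction n with
  | zero => rfl
  | succ n ih => rw [List.range_succ, List.map_append, List.sum_append, ih, Finset.sum_range_succ]; simp

theorem natCast_sum_map (l : List ℕ) (g : ℕ → ℕ) : (((l.map g).sum : ℕ) : ℤ) = (l.map fun i => (g i : ℤ)).sum := by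
  induction l with
  | nil => rfl
  | cons a l ih => rw [List.map_cons, List.sum_cons, List.map_cons, List.sum_cons, Nat.cast_add, ih]

/-- The hypotheses of the kernel checks. -/
structure Checks (D : ChevalleyDatum) (P T m : ℕ → ℕ) (M : ℕ) (C : ℕ → ℕ × ℤ × ℕ × ℕ) : Prop where
  rows : rowsOK D P = true
  size : D.chain.toList.length = D.nroots
  chain : chOK D.rank D.nroots P 0 D.chain.toList = true
  neg : negOK D P = true
  refl : reflOK D P T = true
  tab : ∀ i < D.rank, ∀ s < D.nroots, D.reflectRoot i s = W0Core.look (T i) s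
  simp : simpOK D P = true
  ht : htOK D P m M = true
  cg : cgsOK D P m M C = true

section spec

variable {D : ChevalleyDatum} {P T m : ℕ → ℕ} {M : ℕ} {C : ℕ → ℕ × ℤ × ℕ × ℕ}

theorem lin_hsum (H : Checks D P T m M C) {r : ℕ} (hr : r < D.nroots) :
    lin D (fun i => (m i : ℤ)) r = ((hsum D P m r : ℕ) : ℤ) - M := by
  have h := H.ht
  unfold htOK at h
  rw [Bool.and_eq_true] at h
  have hM := Nat.eq_of_beq_eq_true h.1
  rw [lin_def, ← hM]
  show _ = ((((List.range D.rank).map fun i => m i * look (P i) r).sum : ℕ) : ℤ) - _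
  rw [natCast_sum_map, natCast_sum_map, sum_range_map, sum_range_map, ← Finset.sum_sub_distrib]
  refine Finset.sum_congr rfl fun i hi => ?_
  have := cartan_look H.rows (Finset.mem_range.1 hi) hr
  push_cast
  rw [← this]; ring

theorem chain_spec (H : Checks D P T m M C) {r : ℕ} (hr : r < D.nroots) :
    ∀ e ∈ (D.chain.getD r #[]).toList, e.1 < D.nroots ∧ ∀ q ∈ e.2.toList.zipIdx, q.1.1 < D.nroots ∧
      ∀ i < D.rank, look (P i) q.1.1 + 8 * (q.2 + 1) = (q.2 + 1) * look (P i) r + look (P i) e.1 := by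
  have hr' : r < D.chain.toList.length := by rw [H.size]; exact hr
  have h := chOK_spec D.chain.toList 0 H.chain r hr'
  rw [zero_add] at h
  have hs : r < D.chain.size := by rw [← Array.length_toList]; exact hr'
  have e1 : D.chain.getD r #[] = D.chain.toList[r] := by
    rw [← Array.getElem_eq_getD (h := hs), Array.getElem_toList]
  rw [e1]
  exact h

theorem tab_of_checks (hD : D ∈ [chevG2, chevB2, chevD4, chevF4, chevE6, chevE7, chevE8])
    (H : Checks D P T m M C) : Tab D (fun i => (m i : ℤ)) := by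
  have hn2 : D.nroots % 2 = 0 := UnipOrd.nroots_even hD
  have hsimp : ∀ i < D.rank, D.simple i < D.nroots ∧ D.cartan i (D.simple i) = 2 := by
    intro i hi
    have h := List.all_eq_true.1 H.simp i (List.mem_range.2 hi)
    rw [Bool.and_eq_true, Nat.blt_eq] at h
    refine ⟨h.1, ?_⟩
    have h1 := cartan_look H.rows hi h.1
    rw [Nat.eq_of_beq_eq_true h.2] at h1
    push_cast at h1
    omega
  have hcf : ∀ i < D.rank, Fun D (D.cartan i) := by
    intro i hi
    constructor
    · intro r hr
      have h := List.all_eq_true.1 (List.all_eq_true.1 H.neg r (List.mem_range.2 hr)) i (List.mem_range.2 hi)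
      have h1 := Nat.eq_of_beq_eq_true h
      rw [Reach.neg_eq hD hr]
      have h2 := cartan_look H.rows hi (r := D.nroots - 1 - r) (by omega)
      have h3 := cartan_look H.rows hi hr
      have h4 : ((look (P i) (D.nroots - 1 - r) : ℕ) : ℤ) + (look (P i) r : ℕ) = 16 := by exact_mod_cast h1
      omega
    · intro r hr e he q hq
      obtain ⟨he1, he2⟩ := chain_spec H hr e he
      obtain ⟨hq1, hq2⟩ := he2 q hq
      have h1 := cartan_look H.rows hi hq1
      have h2 := cartan_look H.rows hi hr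
      have h3 := cartan_look H.rows hi he1
      have h4 : ((look (P i) q.1.1 : ℕ) : ℤ) + 8 * (q.2 + 1) = (q.2 + 1) * (look (P i) r : ℕ) + (look (P i) e.1 : ℕ) := by
        exact_mod_cast hq2 i hi
      rw [← h1, ← h2, ← h3] at h4
      linear_combination h4
  have hht : ∀ r < D.nroots, (D.nroots / 2 ≤ r → 0 < lin D (fun i => (m i : ℤ)) r) ∧
      (r < D.nroots / 2 → lin D (fun i => (m i : ℤ)) r < 0) := by
    intro r hr
    have h := H.ht
    unfold htOK at h
    rw [Bool.and_eq_true] at h
    have h1 := List.all_eq_true.1 h.2 r (List.mem_range.2 hr)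
    rw [lin_hsum H hr]
    constructor
    · intro h2
      rw [show Nat.ble (D.nroots / 2) r = true from Nat.ble_eq ▸ h2, cond_true, Nat.blt_eq] at h1
      omega
    · intro h2
      have h3 : Nat.ble (D.nroots / 2) r = false := by
        rw [← Bool.not_eq_true, Nat.ble_eq]
        omega
      rw [h3, cond_false, Nat.blt_eq] at h1
      omega
  have hrefl : ∀ i < D.rank, ∀ s < D.nroots,
      (∀ j < D.rank, D.cartan j (D.reflectRoot i s) = D.cartan j s - D.cartan i s * D.cartan j (D.simple i)) ∧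
      (D.nroots / 2 ≤ s → s ≠ D.simple i → D.nroots / 2 ≤ D.reflectRoot i s) := by
    intro i hi s hs
    have h := List.all_eq_true.1 (List.all_eq_true.1 H.refl s (List.mem_range.2 hs)) i (List.mem_range.2 hi)
    rw [Bool.and_eq_true, ← H.tab i hi s hs] at h
    refine ⟨fun j hj => ?_, fun h1 h2 => ?_⟩
    · have h1 := Nat.eq_of_beq_eq_true (List.all_eq_true.1 h.1 j (List.mem_range.2 hj))
      have e1 := cartan_look H.rows hj (Reach.reflect_lt hD hi hs)
      have e2 := cartan_look H.rows hi hs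
      have e3 := cartan_look H.rows hj (hsimp i hi).1
      have e4 := cartan_look H.rows hj hs
      have h2 : ((look (P j) (D.reflectRoot i s) : ℕ) : ℤ) +
          (look (P i) s : ℕ) * (look (P j) (D.simple i) : ℕ) + 64 =
          (look (P j) s : ℕ) + 8 * (look (P i) s : ℕ) + 8 * (look (P j) (D.simple i) : ℕ) := by exact_mod_cast h1
      rw [← e1, ← e2, ← e3, ← e4] at h2
      linear_combination h2
    · have h3 := h.2
      rw [Bool.or_eq_true, Bool.or_eq_true, Nat.blt_eq, Nat.ble_eq] at h3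
      rcases h3 with (h3 | h3) | h3
      · omega
      · exact absurd (Nat.eq_of_beq_eq_true h3) h2
      · exact h3
  refine
    { neg_lt := fun r hr => Reach.neg_lt hD hr
      neg_neg := fun r hr => Reach.neg_neg hD hr
      chain_lt := fun r hr e he q hq => ((chain_spec H hr e he).2 q hq).1
      pos_iff := ?_
      ne_zero := ?_
      simple_lt := fun i hi => (hsimp i hi).1
      cartan_fun := hcf
      cartan_simple := fun i hi => (hsimp i hi).2
      refl_lt := fun i hi s hs => Reach.reflect_lt hD hi hs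
      refl_cartan := fun i hi s hs j hj => (hrefl i hi s hs).1 j hj
      refl_pos := ?_
      comm_gen := ?_
      prim := ?_ }
  · intro r hr
    rw [UnipOrd.isPosRoot_iff hD]
    constructor
    · intro h; exact (hht r hr).1 h.1
    · intro h
      refine ⟨?_, hr⟩
      by_contra h1
      have := (hht r hr).2 (by omega)
      omega
  · intro r hr
    rcases Nat.lt_or_ge r (D.nroots / 2) with h | h
    · have := (hht r hr).2 h; omega
    · have := (hht r hr).1 h; omega
  · intro i hi s hs h1 h2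
    apply (hht _ (Reach.reflect_lt hD hi hs)).1
    apply (hrefl i hi s hs).2 _ h2
    by_contra h3
    have := (hht s hs).2 (by omega)
    omega
  · intro i hi q hq
    have hcg := List.all_eq_true.1 H.cg i (List.mem_range.2 hi)
    rw [Bool.and_eq_true] at hcg
    have key : ∀ c : ℕ × ℤ × ℕ × ℕ, q < D.nroots → cgOK D P m M (D.simple i) q c = true →
        ∃ m, 0 < lin D m q ∧ CommGen D (lin D m) (D.simple i) q := by
      intro c hqn hc
      unfold cgOK at hc
      simp only [Bool.and_eq_true, Nat.blt_eq, Bool.not_eq_true', decide_eq_true_eq] at hc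
      obtain ⟨⟨⟨⟨⟨hj, hr, hs⟩, ⟨hrp, hrn⟩, hsp, hsn⟩, hsr, hsnr⟩, ⟨hfr, hfs⟩, hfq⟩, hsplit⟩ := hc
      have hbeq : ∀ {a b : ℕ}, Nat.beq a b = false → a ≠ b := by
        intro a b h hab
        rw [hab, Nat.beq_refl] at h
        exact absurd h (by decide)
      have hval : ∀ r < D.nroots,
          lin D (fun k => c.2.1 * (fun i => (m i : ℤ)) k + if k = c.1 then (-2 * c.2.1) else 0) r =
            fval D P m M c.1 c.2.1 r := by
        intro r hr
        rw [lin_comb D _ _ _ hj, lin_hsum H hr]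
        have := cartan_look H.rows hj hr
        unfold fval
        rw [← this]; ring
      refine ⟨_, by rw [hval q hqn]; exact hfq, c.2.2.1, c.2.2.2, hr, hs, hbeq hrp, hbeq hrn, hbeq hsp, hbeq hsn,
        hbeq hsr, hbeq hsnr, by rw [hval _ hr]; exact hfr, by rw [hval _ hs]; exact hfs, splitOK_spec hsplit⟩
    have hp := (hsimp i hi).1
    rcases hq with rfl | rfl
    · exact key _ hp hcg.1
    · exact key _ (Reach.neg_lt hD hp) hcg.2
  · intro r hr
    exact Nat.eq_of_beq_eq_true (List.all_eq_true.1 (UnipOrd.corootPrim_of_mem hD) r (List.mem_range.2 hr))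

end spec

end Cfsg.Agent.ChevalleyStructure.St.Tables
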